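import Groth.Prelude.Def_CohTop
import Mathlib.CategoryTheory.Sites.EpiMono
import Mathlib.Topology.Separation.Profinite
import Mathlib.Algebra.Homology.DerivedCategory.Ext.EnoughProjectives

/-!
The constant sheaf ℤ on a profinite space is projective among abelian sheaves.
-/

universe u

open CategoryTheory Opposite TopologicalSpace

namespace Groth.Agent.ProfAcyclic

variable {X : TopCat.{u}} [CompactSpace X] [T2Space X] [TotallyDisconnectedSpace X]

lemma subsingleton_of_eq_bot {Y : TopCat.{u}} (F : CohTop.Ab Y) {U : Opens Y} (h : U = ⊥) :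
    Subsingleton (F.obj.obj (op U)) := by
  have := (TopCat.Sheaf.isTerminalOfEqEmpty (F := (F : TopCat.Sheaf AddCommGrpCat.{u} Y)) h)
  exact AddCommGrpCat.subsingleton_of_isZero (this.isZero)

lemma epi_surjective_top {F G : CohTop.Ab X} (f : F ⟶ G) [Epi f]
    (s : G.obj.obj (op ⊤)) : ∃ t : F.obj.obj (op ⊤), f.hom.app (op ⊤) t = s := by
  have hls : Sheaf.IsLocallySurjective f := (Sheaf.isLocallySurjective_iff_epi' _ f).2 inferInstance
  have hmem := Presheaf.imageSieve_mem (Opens.grothendieckTopology X) f.hom (U := op ⊤) s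
  rw [Opens.mem_grothendieckTopology] at hmem
  have hx : ∀ x : X, ∃ V : Opens X, IsClopen (V : Set X) ∧ x ∈ V ∧
      ∃ t : F.obj.obj (op V), f.hom.app (op V) t = G.obj.map (homOfLE le_top).op s := by
    intro x
    obtain ⟨U, i, ⟨t, ht⟩, hxU⟩ := hmem x trivial
    obtain ⟨V, hV, hxV, hVU⟩ := isTopologicalBasis_isClopen.mem_nhds_iff.mp
      (U.2.mem_nhds hxU)
    refine ⟨⟨V, hV.2⟩, hV, hxV, F.obj.map (homOfLE (show (⟨V, hV.2⟩ : Opens X) ≤ U from hVU)).op t, ?_⟩
    rw [NatTrans.naturality_apply, ht, ← ConcreteCategory.comp_apply, ← Functor.map_comp]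
    rfl
  choose V hVc hxV tV htV using hx
  obtain ⟨S, hS⟩ := isCompact_univ.elim_finite_subcover (fun x : X => (V x : Set X))
    (fun x => (V x).2) (fun x _ => Set.mem_iUnion.2 ⟨x, hxV x⟩)
  classical
  let e : Fin S.card ≃ S := S.equivFin.symm
  let W : Fin S.card → Opens X := fun k =>
    ⟨(V (e k) : Set X) \ ⋃ j : {j // j < k}, (V (e j) : Set X), (V (e k)).2.sdiff
      (isClosed_iUnion_of_finite fun j => (hVc _).1)⟩
  have hWV : ∀ k, W k ≤ V (e k) := fun k => Set.sdiff_subset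
  have hdisj : ∀ k l, k ≠ l → W k ⊓ W l = ⊥ := by
    intro k l hkl
    ext y
    simp only [Opens.coe_inf, Opens.coe_bot, Set.mem_empty_iff_false, iff_false]
    rintro ⟨h1, h2⟩
    rcases lt_or_gt_of_ne hkl with h | h
    · exact h2.2 (Set.mem_iUnion.2 ⟨⟨k, h⟩, h1.1⟩)
    · exact h1.2 (Set.mem_iUnion.2 ⟨⟨l, h⟩, h2.1⟩)
  have hcov : (⊤ : Opens X) ≤ iSup W := by
    intro y _
    have hy : ∃ k, y ∈ V (e k) := by
      obtain ⟨x, hx⟩ := Set.mem_iUnion₂.1 (hS (Set.mem_univ y))
      exact ⟨e.symm ⟨x, hx.1⟩, by simpa using hx.2⟩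
    let k := Finset.univ.filter (fun k => y ∈ V (e k)) |>.min' ⟨hy.choose, by simp [hy.choose_spec]⟩
    refine Opens.mem_iSup.2 ⟨k, ?_, ?_⟩
    · have := (Finset.univ.filter (fun k => y ∈ V (e k))).min'_mem ⟨hy.choose, by simp [hy.choose_spec]⟩
      simpa using this
    · intro h
      obtain ⟨⟨j, hj⟩, hyj⟩ := Set.mem_iUnion.1 h
      exact absurd hj (not_lt.2 (Finset.min'_le _ j (by simpa using hyj)))
  let sf : ∀ k, F.obj.obj (op (W k)) := fun k =>
    F.obj.map (homOfLE (hWV k)).op (tV (e k))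
  have hcompat : TopCat.Presheaf.IsCompatible F.obj W sf := by
    intro k l
    by_cases hkl : k = l
    · subst hkl; rfl
    · exact @Subsingleton.elim _ (subsingleton_of_eq_bot F (hdisj k l hkl)) _ _
  obtain ⟨t, ht, -⟩ := TopCat.Sheaf.existsUnique_gluing' (F : TopCat.Sheaf AddCommGrpCat.{u} X) W ⊤
    (fun k => homOfLE le_top) hcov sf hcompat
  refine ⟨t, ?_⟩
  refine TopCat.Sheaf.eq_of_locally_eq' (G : TopCat.Sheaf AddCommGrpCat.{u} X) W ⊤
    (fun k => homOfLE le_top) hcov _ _ (fun k => ?_)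
  rw [← NatTrans.naturality_apply]
  erw [ht k]
  simp only [sf]
  rw [NatTrans.naturality_apply, htV, ← ConcreteCategory.comp_apply, ← Functor.map_comp]
  rfl

theorem projective_constZ :
    Projective ((constantSheaf (Opens.grothendieckTopology X) AddCommGrpCat.{u}).obj
      (AddCommGrpCat.of (ULift.{u} ℤ))) := by
  refine ⟨fun {E G} g f _ => ?_⟩
  let adj := constantSheafAdj (Opens.grothendieckTopology X) AddCommGrpCat.{u}
    (Limits.isTerminalTop (α := Opens X))
  obtain ⟨t, ht⟩ := epi_surjective_top f (adj.homEquiv _ _ g (ULift.up 1))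
  refine ⟨(adj.homEquiv _ _).symm (AddCommGrpCat.ofHom
    ((zmultiplesHom _ t).comp AddEquiv.ulift.toAddMonoidHom)), ?_⟩
  apply (adj.homEquiv _ _).injective
  rw [Adjunction.homEquiv_naturality_right, Equiv.apply_symm_apply]
  ext x
  obtain ⟨n⟩ := x
  have h1 : (ULift.up n : ULift.{u} ℤ) = n • ULift.up 1 := by ext; simp
  simp only [AddCommGrpCat.hom_comp, AddMonoidHom.comp_apply, AddCommGrpCat.hom_ofHom]
  rw [h1, map_zsmul, map_zsmul, map_zsmul, map_zsmul]
  refine congrArg (n • ·) ?_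
  change f.hom.app (op ⊤) (zmultiplesHom _ t 1) = _
  rw [zmultiplesHom_apply, one_zsmul]
  exact ht

theorem subsingleton_H (F : CohTop.Ab X) (p : ℕ) : Subsingleton (CohTop.H F (p + 1)) := by
  have := projective_constZ (X := X)
  exact subsingleton_of_forall_eq 0 fun x => Abelian.Ext.eq_zero_of_projective x

end Groth.Agent.ProfAcyclic
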